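import Groth.Agent.Sga7.H116.L1
import Groth.Agent.Sga7.H737.FlatMonoBC
import Mathlib.AlgebraicGeometry.Group.Abelian

/-!
# Commutativity of flat separated group schemes can be checked on the generic fibre
-/

set_option autoImplicit false
universe u

open CategoryTheory CategoryTheory.Limits AlgebraicGeometry MonObj
open MonoidalCategory CartesianMonoidalCategory

namespace Groth.Agent.Sga7.H333.GenComm

attribute [local instance] Functor.grpObjObj in
/-- A flat separated group scheme whose base change along a quasi-compact schematically dominant morphism is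
commutative is commutative. -/
theorem isCommMonObj_of_dominant {S T : Scheme.{u}} (j : T ⟶ S) [IsSchemeTheoreticallyDominant j]
    [QuasiCompact j] (G : Over S) [GrpObj G] [Flat G.hom] [IsSeparated G.hom]
    [hc : IsCommMonObj (Red.bc j G)] : IsCommMonObj G := by
  rw [isCommMonObj_iff_commutator_eq_toUnit_η] at hc ⊢
  have hY : Flat (G ⊗ G).hom := by dsimp; infer_instance
  apply Groth.Agent.Sga7.H737.FlatMonoBC.ext_of_dominant j
  rw [← cancel_epi (Functor.Monoidal.μIso (Over.pullback j) G G).hom]
  dsimp [GrpObj.commutator] at hc ⊢
  simpa only [Functor.map_mul, one_eq_one, comp_one, Functor.map_one, Functor.map_inv',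
    comp_mul, GrpObj.comp_inv, Functor.Monoidal.μIso_hom, Functor.Monoidal.μ_fst,
    Functor.Monoidal.μ_snd] using hc

/-- A group scheme isomorphic (as a group) to a commutative one is commutative. -/
theorem isCommMonObj_of_mono' {S : Scheme.{u}} {K G : Over S} [GrpObj K] [GrpObj G] [IsCommMonObj G] (i : K ⟶ G)
    [IsMonHom i] [Mono i] : IsCommMonObj K where
  mul_comm := by
    rw [← cancel_mono i]
    simp only [Category.assoc, IsMonHom.mul_hom]
    rw [← BraidedCategory.braiding_naturality_assoc, IsCommMonObj.mul_comm]

/-- `G` flat and separated over a domain, `u : G ⟶ N` a homomorphism which is an isomorphism on generic fibres, and the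
generic fibre of `N` commutative: then `G` is commutative. -/
theorem isCommMonObj_of_isIso_genFib (R K : Type u) [CommRing R] [IsDomain R] [Field K] [Algebra R K]
    [IsFractionRing R K] (G N : Over (Spec (CommRingCat.of R))) [GrpObj G] [GrpObj N] [Flat G.hom]
    [IsSeparated G.hom] [IsCommMonObj ((SGA7.genFib R K).obj N)] (u : G ⟶ N) [IsMonHom u]
    [IsIso ((SGA7.genFib R K).map u)] : IsCommMonObj G := by
  have h1 : IsCommMonObj (Red.bc (Spec.map (CommRingCat.ofHom (algebraMap R K))) G) :=
    isCommMonObj_of_mono' ((SGA7.genFib R K).map u)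
  have h2 : IsSchemeTheoreticallyDominant (Spec.map (CommRingCat.ofHom (algebraMap R K))) :=
    Groth.Agent.Sga7.H116.L1.isSchemeTheoreticallyDominant_gen R K
  exact isCommMonObj_of_dominant (Spec.map (CommRingCat.ofHom (algebraMap R K))) G

end Groth.Agent.Sga7.H333.GenComm
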